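import Groth.Agent.Lib.ProTri.Derived

/-!
# Factoring morphisms of the derived category through truncations
-/

universe w v u

open CategoryTheory Limits Pretriangulated DerivedCategory GrothLib.DerTrunc GrothLib.ProTri

namespace GrothLib.ProTri

variable {A : Type u} [Category.{v} A] [Abelian A] [HasDerivedCategory.{w} A]

local notation "τ" => (DerivedCategory.TStructure.t : Triangulated.TStructure (DerivedCategory A))

lemma eq_zero_of_heart {m : ℤ} {X Y : DerivedCategory A} [X.IsGE m] [X.IsLE m] [Y.IsGE m] [Y.IsLE m]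
    (f : X ⟶ Y) (h : (homologyFunctor A m).map f = 0) : f = 0 :=
  (bijective_homology_map m X Y).1 (h.trans (Functor.map_zero _ _ _).symm)

lemma isLE_truncGE' (X : DerivedCategory A) (b m : ℤ) [X.IsLE m] :
    (((τ).truncGE b).obj X).IsLE m :=
  (DerivedCategory.isLE_iff _ _).2 fun i hi => by
    by_cases h : b ≤ i
    · have := isIso_homology_truncGEπ X b i h
      exact (isZero_of_isLE X m i hi).of_iso
        (asIso ((homologyFunctor A i).map (((τ).truncGEπ b).app X))).symm
    · exact isZero_homology_truncGE X b i (by omega)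

lemma isGE_truncLT' (X : DerivedCategory A) (b m : ℤ) [X.IsGE m] :
    (((τ).truncLT b).obj X).IsGE m :=
  (DerivedCategory.isGE_iff _ _).2 fun i hi => by
    by_cases h : b ≤ i
    · exact isZero_homology_truncLT X b i h
    · have := isIso_homology_truncLTι X b i (by omega)
      exact (isZero_of_isGE X m i hi).of_iso
        (asIso ((homologyFunctor A i).map (((τ).truncLTι b).app X)))

/-- A morphism from an object in degree `m` to one in degrees `≥ m` vanishes if `H^m` does. -/
lemma eq_zero_of_isGE {m : ℤ} {X Y : DerivedCategory A} [X.IsGE m] [X.IsLE m] [Y.IsGE m]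
    (f : X ⟶ Y) (h : (homologyFunctor A m).map f = 0) : f = 0 := by
  have : ((τ).IsLE X m) := (inferInstance : X.IsLE m)
  obtain ⟨g, hg⟩ : ∃ g : X ⟶ ((τ).truncLT (m + 1)).obj Y, g ≫ ((τ).truncLTι (m + 1)).app Y = f :=
    ⟨(τ).liftTruncLT f m (m + 1) rfl, (τ).liftTruncLT_ι f m (m + 1) rfl⟩
  have : (((τ).truncLT (m + 1)).obj Y).IsGE m := isGE_truncLT' Y _ m
  have : (((τ).truncLT (m + 1)).obj Y).IsLE m := (τ).isLE_truncLT_obj Y (m + 1) m
  have := isIso_homology_truncLTι Y (m + 1) m (by omega)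
  have hg0 : (homologyFunctor A m).map g = 0 := by
    rw [← cancel_mono ((homologyFunctor A m).map (((τ).truncLTι (m + 1)).app Y)), ← Functor.map_comp,
      hg, h, zero_comp]
  rw [← hg, eq_zero_of_heart g hg0, zero_comp]

/-- A morphism from an object in degrees `≤ m` to one in degree `m` vanishes if `H^m` does. -/
lemma eq_zero_of_isLE {m : ℤ} {X Y : DerivedCategory A} [X.IsLE m] [Y.IsGE m] [Y.IsLE m]
    (f : X ⟶ Y) (h : (homologyFunctor A m).map f = 0) : f = 0 := by
  have : ((τ).IsGE Y m) := (inferInstance : Y.IsGE m)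
  obtain ⟨g, hg⟩ : ∃ g : ((τ).truncGE m).obj X ⟶ Y, ((τ).truncGEπ m).app X ≫ g = f :=
    ⟨(τ).descTruncGE f m, (τ).π_descTruncGE f m⟩
  have : (((τ).truncGE m).obj X).IsLE m := isLE_truncGE' X m m
  have : (((τ).truncGE m).obj X).IsGE m := (τ).isGE_truncGE_obj X m m
  have := isIso_homology_truncGEπ X m m le_rfl
  have hg0 : (homologyFunctor A m).map g = 0 := by
    rw [← cancel_epi ((homologyFunctor A m).map (((τ).truncGEπ m).app X)), ← Functor.map_comp,
      hg, h, comp_zero]
  rw [← hg, eq_zero_of_heart g hg0, comp_zero]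

/-- A morphism from degrees `≤ m` which is zero on `H^m` factors through `τ_{<m}`. -/
lemma exists_lift_truncLT {m : ℤ} {W X : DerivedCategory A} [W.IsLE m] (f : W ⟶ X)
    (h : (homologyFunctor A m).map f = 0) :
    ∃ g : W ⟶ ((τ).truncLT m).obj X, g ≫ ((τ).truncLTι m).app X = f := by
  suffices f ≫ ((τ).truncGEπ m).app X = 0 by
    obtain ⟨g, hg⟩ := Triangle.coyoneda_exact₂ _ ((τ).triangleLTGE_distinguished m X) f this
    exact ⟨g, hg.symm⟩
  have : (((τ).truncGE m).obj X).IsGE m := (τ).isGE_truncGE_obj X m m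
  have : (((τ).truncGE m).obj W).IsLE m := isLE_truncGE' W m m
  have : (((τ).truncGE m).obj W).IsGE m := (τ).isGE_truncGE_obj W m m
  have := isIso_homology_truncGEπ W m m le_rfl
  rw [← (τ).truncGEπ_naturality m f]
  have h0 : ((τ).truncGE m).map f = 0 := eq_zero_of_isGE _ (by
    rw [← cancel_epi ((homologyFunctor A m).map (((τ).truncGEπ m).app W)), ← Functor.map_comp,
      (τ).truncGEπ_naturality m f, Functor.map_comp, h, zero_comp, comp_zero])
  rw [h0, comp_zero]

/-- A morphism to degrees `≥ m` which is zero on `H^m` factors through `τ_{≥m+1}`. -/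
lemma exists_desc_truncGE {m : ℤ} {W X : DerivedCategory A} [X.IsGE m] (f : W ⟶ X)
    (h : (homologyFunctor A m).map f = 0) :
    ∃ g : ((τ).truncGE (m + 1)).obj W ⟶ X, ((τ).truncGEπ (m + 1)).app W ≫ g = f := by
  suffices ((τ).truncLTι (m + 1)).app W ≫ f = 0 by
    obtain ⟨g, hg⟩ := Triangle.yoneda_exact₂ _ ((τ).triangleLTGE_distinguished (m + 1) W) f this
    exact ⟨g, hg.symm⟩
  have : (((τ).truncLT (m + 1)).obj W).IsLE m := (τ).isLE_truncLT_obj W (m + 1) m
  have : (((τ).truncLT (m + 1)).obj X).IsLE m := (τ).isLE_truncLT_obj X (m + 1) m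
  have : (((τ).truncLT (m + 1)).obj X).IsGE m := isGE_truncLT' X _ m
  have := isIso_homology_truncLTι X (m + 1) m (by omega)
  have hn := ((τ).truncLTι (m + 1)).naturality f
  dsimp at hn
  rw [← hn]
  have h0 : ((τ).truncLT (m + 1)).map f = 0 := eq_zero_of_isLE _ (by
    rw [← cancel_mono ((homologyFunctor A m).map (((τ).truncLTι (m + 1)).app X)), ← Functor.map_comp,
      hn, Functor.map_comp, h, comp_zero, zero_comp])
  rw [h0, zero_comp]

/-- Existence and uniqueness for objects in two adjacent degrees. -/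
theorem existsUnique_two {q : ℤ} {X Y C₁ C₃ : DerivedCategory A} [X.IsGE (q - 1)] [X.IsLE q]
    [Y.IsGE (q - 1)] [Y.IsLE q] [C₁.IsGE (q - 1)] [C₁.IsLE (q - 1)] [C₃.IsGE q] [C₃.IsLE q]
    (p : X ⟶ C₃) (hp : IsIso ((homologyFunctor A q).map p))
    (j : C₁ ⟶ Y) (hj : IsIso ((homologyFunctor A (q - 1)).map j))
    (F : X ⟶ Y) (h₁ : (homologyFunctor A (q - 1)).map F = 0)
    (h₂ : (homologyFunctor A q).map F = 0) : ∃! L : C₃ ⟶ C₁, F = p ≫ L ≫ j := by
  -- identify `C₃` with `τ_{≥q} X` and `C₁` with `τ_{<q} Y`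
  have : ((τ).IsGE C₃ q) := (inferInstance : C₃.IsGE q)
  have : ((τ).IsLE C₁ (q - 1)) := (inferInstance : C₁.IsLE (q - 1))
  let p' := (τ).descTruncGE p q
  let j' := (τ).liftTruncLT j (q - 1) q (by omega)
  have : IsIso p' := by
    rw [DerivedCategory.isIso_iff]
    intro i
    by_cases hi : i = q
    · subst hi
      have := isIso_homology_truncGEπ X i i le_rfl
      have e : (homologyFunctor A i).map (((τ).truncGEπ i).app X) ≫ (homologyFunctor A i).map p' =
          (homologyFunctor A i).map p := by rw [← Functor.map_comp, (τ).π_descTruncGE]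
      exact IsIso.of_isIso_fac_left e
    · have : (((τ).truncGE q).obj X).IsLE q := isLE_truncGE' X q q
      have : (((τ).truncGE q).obj X).IsGE q := (τ).isGE_truncGE_obj X q q
      rcases lt_or_gt_of_ne hi with hlt | hgt
      · exact ⟨0, (isZero_of_isGE _ q i hlt).eq_of_src _ _, (isZero_of_isGE _ q i hlt).eq_of_src _ _⟩
      · exact ⟨0, (isZero_of_isLE _ q i hgt).eq_of_src _ _, (isZero_of_isLE _ q i hgt).eq_of_src _ _⟩
  have : IsIso j' := by
    rw [DerivedCategory.isIso_iff]
    intro i
    by_cases hi : i = q - 1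
    · subst hi
      have := isIso_homology_truncLTι Y q (q - 1) (by omega)
      have e : (homologyFunctor A (q - 1)).map j' ≫
          (homologyFunctor A (q - 1)).map (((τ).truncLTι q).app Y) =
            (homologyFunctor A (q - 1)).map j := by rw [← Functor.map_comp, (τ).liftTruncLT_ι]
      exact IsIso.of_isIso_fac_right e
    · have : (((τ).truncLT q).obj Y).IsGE (q - 1) := isGE_truncLT' Y q (q - 1)
      have : (((τ).truncLT q).obj Y).IsLE (q - 1) := (τ).isLE_truncLT_obj Y q (q - 1)
      rcases lt_or_gt_of_ne hi with hlt | hgt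
      · exact ⟨0, (isZero_of_isGE _ _ i hlt).eq_of_src _ _, (isZero_of_isGE _ _ i hlt).eq_of_src _ _⟩
      · exact ⟨0, (isZero_of_isLE _ _ i hgt).eq_of_src _ _, (isZero_of_isLE _ _ i hgt).eq_of_src _ _⟩
  -- existence
  obtain ⟨g, hg⟩ : ∃ g : ((τ).truncGE q).obj X ⟶ Y, ((τ).truncGEπ q).app X ≫ g = F := by
    have := exists_desc_truncGE (m := q - 1) F h₁
    rw [show q - 1 + 1 = q by omega] at this
    exact this
  have : (((τ).truncGE q).obj X).IsLE q := isLE_truncGE' X q q
  have := isIso_homology_truncGEπ X q q le_rfl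
  obtain ⟨l, hl⟩ := exists_lift_truncLT (m := q) g (by
    rw [← cancel_epi ((homologyFunctor A q).map (((τ).truncGEπ q).app X)), ← Functor.map_comp, hg,
      h₂, comp_zero])
  refine ⟨inv p' ≫ l ≫ inv j', ?_, fun L hL => ?_⟩
  · change F = p ≫ _ ≫ j
    have e1 : p ≫ inv p' = ((τ).truncGEπ q).app X := by
      rw [IsIso.comp_inv_eq]
      exact ((τ).π_descTruncGE p q).symm
    have e2 : inv j' ≫ j = ((τ).truncLTι q).app Y := by
      rw [IsIso.inv_comp_eq]
      exact ((τ).liftTruncLT_ι j (q - 1) q (by omega)).symm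
    rw [Category.assoc, Category.assoc, e2, reassoc_of% e1, hl, hg]
  · -- uniqueness
    change F = p ≫ L ≫ j at hL
    suffices p' ≫ L ≫ j' = l by rw [← this]; simp
    have h0 : ((τ).truncGEπ q).app X ≫ ((p' ≫ L ≫ j' - l) ≫ ((τ).truncLTι q).app Y) = 0 := by
      simp only [Preadditive.sub_comp, Preadditive.comp_sub, Category.assoc]
      rw [show j' ≫ ((τ).truncLTι q).app Y = j from (τ).liftTruncLT_ι j (q - 1) q (by omega),
        ← Category.assoc _ p', show ((τ).truncGEπ q).app X ≫ p' = p from (τ).π_descTruncGE p q,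
        hl, hg, ← hL, sub_self]
    obtain ⟨u, hu⟩ := Triangle.yoneda_exact₃ _ ((τ).triangleLTGE_distinguished q X) _ h0
    have hz : u = 0 := by
      have : (τ).IsLE ((τ).truncLT q |>.obj X) (q - 1) := inferInstance
      have := (τ).isLE_shift ((τ).truncLT q |>.obj X) (q - 1) 1 (q - 2) (by omega)
      exact (τ).zero_of_isLE_of_isGE u (q - 2) (q - 1) (by omega) this (inferInstance : Y.IsGE (q - 1))
    rw [hz, comp_zero] at hu
    obtain ⟨u', hu'⟩ := Triangle.coyoneda_exact₂ _
      (inv_rot_of_distTriang _ ((τ).triangleLTGE_distinguished q Y)) _ hu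
    have hz' : u' = 0 := by
      have : (τ).IsGE ((τ).truncGE q |>.obj Y) q := inferInstance
      have := (τ).isGE_shift ((τ).truncGE q |>.obj Y) q (-1) (q + 1) (by omega)
      exact (τ).zero_of_isLE_of_isGE u' q (q + 1) (by omega) ‹(((τ).truncGE q).obj X).IsLE q› this
    rw [hz'] at hu'
    exact sub_eq_zero.mp (hu'.trans zero_comp)

/-- `Q` of the canonical truncation computes `τ_{≤ m}`. -/
lemma exists_lift_Q_truncLE (K : CochainComplex A ℤ) (m m' : ℤ) (hm : m + 1 = m') :
    ∃ e : ((τ).truncLT m').obj (Q.obj K) ⟶ Q.obj (K.truncLE m),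
      e ≫ Q.map (K.ιTruncLE m) = ((τ).truncLTι m').app (Q.obj K) := by
  have : (τ).IsLE (Q.obj (K.truncLE m)) m := (inferInstance : (Q.obj (K.truncLE m)).IsLE m)
  let l := (τ).liftTruncLT (Q.map (K.ιTruncLE m)) m m' hm
  have : IsIso l := by
    rw [DerivedCategory.isIso_iff]
    intro i
    by_cases hi : i ≤ m
    · have := isIso_homology_truncLTι (Q.obj K) m' i (by omega)
      have := K.quasiIsoAt_ιTruncLE m i hi
      have : IsIso ((homologyFunctor A i).map (Q.map (K.ιTruncLE m))) := by
        rw [← Functor.comp_map, NatIso.isIso_map_iff (homologyFunctorFactors A i)]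
        exact (quasiIsoAt_iff_isIso_homologyMap _ i).1 this
      have e : (homologyFunctor A i).map l ≫
          (homologyFunctor A i).map (((τ).truncLTι m').app (Q.obj K)) =
            (homologyFunctor A i).map (Q.map (K.ιTruncLE m)) := by
        rw [← Functor.map_comp, (τ).liftTruncLT_ι]
      exact IsIso.of_isIso_fac_right e
    · exact ⟨0, (isZero_of_isLE (Q.obj (K.truncLE m)) m i (by omega)).eq_of_src _ _,
        (isZero_homology_truncLT (Q.obj K) m' i (by omega)).eq_of_src _ _⟩
  refine ⟨inv l, ?_⟩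
  rw [IsIso.inv_comp_eq, (τ).liftTruncLT_ι]

/-- `Q` of the canonical truncation computes `τ_{≥ m}`. -/
lemma exists_desc_Q_truncGE (K : CochainComplex A ℤ) (m : ℤ) :
    ∃ e : Q.obj (K.truncGE m) ⟶ ((τ).truncGE m).obj (Q.obj K),
      Q.map (K.πTruncGE m) ≫ e = ((τ).truncGEπ m).app (Q.obj K) := by
  have : (τ).IsGE (Q.obj (K.truncGE m)) m := (inferInstance : (Q.obj (K.truncGE m)).IsGE m)
  let l := (τ).descTruncGE (Q.map (K.πTruncGE m)) m
  have : IsIso l := by
    rw [DerivedCategory.isIso_iff]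
    intro i
    by_cases hi : m ≤ i
    · have := isIso_homology_truncGEπ (Q.obj K) m i hi
      have := K.quasiIsoAt_πTruncGE m i hi
      have : IsIso ((homologyFunctor A i).map (Q.map (K.πTruncGE m))) := by
        rw [← Functor.comp_map, NatIso.isIso_map_iff (homologyFunctorFactors A i)]
        exact (quasiIsoAt_iff_isIso_homologyMap _ i).1 this
      have e : (homologyFunctor A i).map (((τ).truncGEπ m).app (Q.obj K)) ≫
          (homologyFunctor A i).map l = (homologyFunctor A i).map (Q.map (K.πTruncGE m)) := by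
        rw [← Functor.map_comp, (τ).π_descTruncGE]
      exact IsIso.of_isIso_fac_left e
    · exact ⟨0, (isZero_homology_truncGE (Q.obj K) m i (by omega)).eq_of_src _ _,
        (isZero_of_isGE (Q.obj (K.truncGE m)) m i (by omega)).eq_of_src _ _⟩
  refine ⟨inv l, ?_⟩
  rw [IsIso.comp_inv_eq, (τ).π_descTruncGE]

end GrothLib.ProTri
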