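import Groth.Prelude.Def_DerCA

/-!
# Inverse systems of distinguished triangles

Essential constancy satisfies "two out of three" (middle term) and pro-isomorphisms satisfy the
five lemma, for `ℕ`-indexed inverse systems of distinguished triangles.
-/

universe v u

open CategoryTheory Limits Pretriangulated Opposite

namespace GrothLib.ProTri

section Basic

variable {C : Type u} [Category.{v} C] {X : ARSys.PS C}

@[reassoc]
lemma tr_comp (X : ARSys.PS C) {a b c : ℕ} (hab : a ≤ b) (hbc : b ≤ c) :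
    ARSys.tr X hbc ≫ ARSys.tr X hab = ARSys.tr X (hab.trans hbc) := by
  simp only [ARSys.tr, ← Functor.map_comp]
  rfl

@[reassoc]
lemma tr_nat {Y : ARSys.PS C} (f : X ⟶ Y) {a b : ℕ} (h : a ≤ b) :
    ARSys.tr X h ≫ f.app (op a) = f.app (op b) ≫ ARSys.tr Y h :=
  f.naturality _

@[reassoc]
lemma const_tr {A : C} (c : (Functor.const ℕᵒᵖ).obj A ⟶ X) {a b : ℕ} (h : a ≤ b) :
    c.app (op b) ≫ ARSys.tr X h = c.app (op a) := by
  simpa using! (c.naturality (homOfLE h).op).symm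

/-- A cone from a compatible family. -/
def cone {A : C} (b : ∀ n, A ⟶ X.obj (op n))
    (hb : ∀ (m n : ℕ) (h : n ≤ m), b m ≫ ARSys.tr X h = b n) :
    (Functor.const ℕᵒᵖ).obj A ⟶ X where
  app n := b n.unop
  naturality m n f := by
    have := hb m.unop n.unop (leOfHom f.unop)
    simpa using! this.symm

lemma ess_ge {A : C} {c : (Functor.const ℕᵒᵖ).obj A ⟶ X} {i : ℕ} {s : X.obj (op i) ⟶ A}
    {j : ℕ} (h : ∃ (k : ℕ) (hi : i ≤ k) (hj : j ≤ k),
      ARSys.tr X hj = ARSys.tr X hi ≫ s ≫ c.app (op j)) :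
    ∃ K : ℕ, i ≤ K ∧ j ≤ K ∧ ∀ k, K ≤ k → ∀ (hi : i ≤ k) (hj : j ≤ k),
      ARSys.tr X hj = ARSys.tr X hi ≫ s ≫ c.app (op j) := by
  obtain ⟨K, hiK, hjK, e⟩ := h
  refine ⟨K, hiK, hjK, fun k hk hi hj => ?_⟩
  rw [← tr_comp X hjK hk, e, ← tr_comp X hiK hk, Category.assoc]

end Basic

variable {D : Type u} [Category.{v} D] [Preadditive D] [HasZeroObject D] [HasShift D ℤ]
  [∀ n : ℤ, (shiftFunctor D n).Additive] [Pretriangulated D]

/-- A family of morphisms `Z_n ⟶ X_n⟦1⟧` compatible with the transition maps. -/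
def Conn {X Z : ARSys.PS D} (h : ∀ n, Z.obj (op n) ⟶ (X.obj (op n))⟦(1 : ℤ)⟧) : Prop :=
  ∀ (a b : ℕ) (hab : a ≤ b), ARSys.tr Z hab ≫ h a = h b ≫ (ARSys.tr X hab)⟦(1 : ℤ)⟧'

lemma Conn.of_natTrans {X Z : ARSys.PS D} (h : Z ⟶ X ⋙ shiftFunctor D (1 : ℤ)) :
    Conn (X := X) (Z := Z) (fun n => h.app (op n)) :=
  fun _ _ hab => h.naturality (homOfLE hab).op

@[reassoc]
lemma tr_nat₃ {X Z : ARSys.PS D} {h : ∀ n, Z.obj (op n) ⟶ (X.obj (op n))⟦(1 : ℤ)⟧} (hh : Conn h)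
    {a b : ℕ} (hab : a ≤ b) :
    ARSys.tr Z hab ≫ h a = h b ≫ (ARSys.tr X hab)⟦(1 : ℤ)⟧' :=
  hh a b hab

section Wrap

variable {P Q R : D} {p : P ⟶ Q} {q : Q ⟶ R} {r : R ⟶ P⟦(1 : ℤ)⟧}
  (hT : Triangle.mk p q r ∈ distTriang D)

include hT

lemma lift₂ {W : D} (w : W ⟶ Q) (hw : w ≫ q = 0) : ∃ x : W ⟶ P, w = x ≫ p :=
  Triangle.coyoneda_exact₂ _ hT w hw

lemma lift₃ {W : D} (w : W ⟶ R) (hw : w ≫ r = 0) : ∃ x : W ⟶ Q, w = x ≫ q :=
  Triangle.coyoneda_exact₃ _ hT w hw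

lemma lift₁ {W : D} (w : W ⟶ P⟦(1 : ℤ)⟧) (hw : w ≫ p⟦(1 : ℤ)⟧' = 0) : ∃ x : W ⟶ R, w = x ≫ r :=
  Triangle.coyoneda_exact₁ _ hT w hw

lemma zero₂₃ : q ≫ r = 0 := comp_distTriang_mor_zero₂₃ _ hT

lemma zero₃₁ : r ≫ p⟦(1 : ℤ)⟧' = 0 := comp_distTriang_mor_zero₃₁ _ hT

lemma fill₂ {P' Q' R' : D} {p' : P' ⟶ Q'} {q' : Q' ⟶ R'} {r' : R' ⟶ P'⟦(1 : ℤ)⟧}
    (hT' : Triangle.mk p' q' r' ∈ distTriang D) (a : P ⟶ P') (c : R ⟶ R')
    (comm : r ≫ a⟦(1 : ℤ)⟧' = c ≫ r') :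
    ∃ b : Q ⟶ Q', p ≫ b = a ≫ p' ∧ q ≫ c = b ≫ q' :=
  complete_distinguished_triangle_morphism₂ _ _ hT hT' a c comm

lemma isIso_fill (e : Q ⟶ Q) (h₁ : p ≫ e = p) (h₂ : q = e ≫ q) : IsIso e := by
  let φ : Triangle.mk p q r ⟶ Triangle.mk p q r :=
    { hom₁ := 𝟙 P
      hom₂ := e
      hom₃ := 𝟙 R
      comm₁ := h₁.trans (Category.id_comp _).symm
      comm₂ := (Category.comp_id _).trans h₂
      comm₃ := by
        change r ≫ (𝟙 P)⟦(1 : ℤ)⟧' = 𝟙 R ≫ r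
        simp }
  exact isIso₂_of_isIso₁₃ φ hT hT (inferInstanceAs (IsIso (𝟙 P))) (inferInstanceAs (IsIso (𝟙 R)))

end Wrap

variable {X Y Z : ARSys.PS D} {f : X ⟶ Y} {g : Y ⟶ Z} {h : ∀ n, Z.obj (op n) ⟶ (X.obj (op n))⟦(1 : ℤ)⟧}

/-- Essential constancy of the middle term. -/
theorem essConstant₂ (hh : Conn h)
    (hT : ∀ n : ℕ, Triangle.mk (f.app (op n)) (g.app (op n)) (h (n)) ∈ distTriang D)
    {A C : D} {cA : (Functor.const ℕᵒᵖ).obj A ⟶ X} {cC : (Functor.const ℕᵒᵖ).obj C ⟶ Z}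
    (hX : DerCA.IsEssConstant X A cA) (hZ : DerCA.IsEssConstant Z C cC) :
    ∃ (B : D) (cB : (Functor.const ℕᵒᵖ).obj B ⟶ Y), DerCA.IsEssConstant Y B cB := by
  obtain ⟨iA, sA, hsA, hA⟩ := hX
  obtain ⟨iC, sC, hsC, hC⟩ := hZ
  have hA' := fun j => ess_ge (hA j)
  have hC' := fun j => ess_ge (hC j)
  choose KA hKA₁ hKA₂ hKA₃ using hA'
  choose KC hKC₁ hKC₂ hKC₃ using hC'
  have hsA' : ∀ k (hk : iA ≤ k), cA.app (op k) ≫ ARSys.tr X hk ≫ sA = 𝟙 A := fun k hk => by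
    exact (Category.assoc _ _ _).symm.trans ((congrArg (· ≫ sA) (const_tr cA hk)).trans hsA)
  have hsC' : ∀ k (hk : iC ≤ k), cC.app (op k) ≫ ARSys.tr Z hk ≫ sC = 𝟙 C := fun k hk => by
    exact (Category.assoc _ _ _).symm.trans ((congrArg (· ≫ sC) (const_tr cC hk)).trans hsC)
  let δ : C ⟶ A⟦(1 : ℤ)⟧ := cC.app (op iA) ≫ h (iA) ≫ sA⟦(1 : ℤ)⟧'
  have hδ : ∀ j, δ ≫ (cA.app (op j))⟦(1 : ℤ)⟧' = cC.app (op j) ≫ h (j) := by
    intro j
    have h1 := hKA₃ j (KA j) le_rfl (hKA₁ j) (hKA₂ j)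
    calc δ ≫ (cA.app (op j))⟦(1 : ℤ)⟧'
        = cC.app (op iA) ≫ h (iA) ≫ (sA ≫ cA.app (op j))⟦(1 : ℤ)⟧' := by simp [δ]
      _ = cC.app (op (KA j)) ≫ h ((KA j)) ≫ (ARSys.tr X (hKA₂ j))⟦(1 : ℤ)⟧' := by
        rw [h1, Functor.map_comp _ (ARSys.tr X (hKA₁ j)), ← tr_nat₃_assoc hh]
        exact (congrArg (· ≫ _) (const_tr cC (hKA₁ j))).symm.trans (Category.assoc _ _ _)
      _ = _ := by
        rw [← tr_nat₃ hh]
        exact (Category.assoc _ _ _).symm.trans (congrArg (· ≫ _) (const_tr cC (hKA₂ j)))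
  set N := KC iA ⊔ iA ⊔ iC with hN
  have hNA : iA ≤ N := by omega
  have hNC : iC ≤ N := by omega
  have hδ' : h (N) ≫ (ARSys.tr X hNA ≫ sA)⟦(1 : ℤ)⟧' = (ARSys.tr Z hNC ≫ sC) ≫ δ := by
    rw [Functor.map_comp, ← tr_nat₃_assoc hh, hKC₃ iA N (by omega) hNC hNA]
    simp [δ]
  obtain ⟨B, u, v, hB⟩ := distinguished_cocone_triangle₂ δ
  have hβ : ∀ j, ∃ β : B ⟶ Y.obj (op j), u ≫ β = cA.app (op j) ≫ f.app (op j) ∧
      v ≫ cC.app (op j) = β ≫ g.app (op j) :=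
    fun j => fill₂ hB (hT j) (cA.app (op j))
      (cC.app (op j)) (hδ j)
  choose β hβ₁ hβ₂ using hβ
  obtain ⟨t, ht₁, ht₂⟩ := fill₂ (hT N) hB
    (ARSys.tr X hNA ≫ sA) (ARSys.tr Z hNC ≫ sC) hδ'
  have he : ∀ k (hk : N ≤ k), IsIso (β k ≫ ARSys.tr Y hk ≫ t) := by
    intro k hk
    have c₁ : u ≫ β k ≫ ARSys.tr Y hk ≫ t = 𝟙 A ≫ u := by
      rw [reassoc_of% hβ₁ k, ← tr_nat_assoc f, ht₁, ← Category.assoc (ARSys.tr X hk),
        ← Category.assoc (cA.app _), ← Category.assoc (cA.app _)]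
      congr 1
      rw [Category.assoc, tr_comp_assoc]
      exact hsA' k _
    have c₂ : v ≫ 𝟙 C = (β k ≫ ARSys.tr Y hk ≫ t) ≫ v := by
      rw [Category.assoc, Category.assoc, ← ht₂, tr_nat_assoc g, ← reassoc_of% hβ₂ k,
        tr_comp_assoc]
      exact congrArg (v ≫ ·) (hsC' k _).symm
    exact isIso_fill hB _ (c₁.trans (Category.id_comp _)) ((Category.comp_id _).symm.trans c₂)
  have kill : ∀ j, ∃ K, j ≤ K ∧ ∃ hK : N ≤ K, ∀ {W : D} (w : W ⟶ Y.obj (op K)),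
      w ≫ ARSys.tr Y hK ≫ t = 0 → ∀ hj : j ≤ K, w ≫ ARSys.tr Y hj = 0 := by
    intro j
    let l := N ⊔ KA j ⊔ j
    let K := KC l ⊔ l
    have hNl : N ≤ l := by omega
    have hlK : l ≤ K := by omega
    have hjl : j ≤ l := by omega
    refine ⟨K, by omega, by omega, fun {W} w hw hj => ?_⟩
    have hwg : (w ≫ ARSys.tr Y hlK) ≫ g.app (op l) = 0 := by
      have h1 := congrArg (· ≫ v) hw
      simp only [Category.assoc, zero_comp, ← ht₂, tr_nat_assoc g, tr_comp_assoc] at h1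
      rw [Category.assoc, tr_nat g, hKC₃ l K (by omega) (hKC₁ l |>.trans (by omega)) hlK]
      have h2 := congrArg (· ≫ cC.app (op l)) h1
      simp only [Category.assoc, zero_comp] at h2
      exact h2
    obtain ⟨x, hx⟩ := lift₂ (hT l) (w ≫ ARSys.tr Y hlK) hwg
    have hp : x ≫ ARSys.tr X (hNA.trans hNl) ≫ sA ≫ u = 0 := by
      have h1 : x ≫ f.app (op l) ≫ ARSys.tr Y hNl ≫ t = 0 := by
        rw [← Category.assoc, ← hx, Category.assoc, tr_comp_assoc]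
        exact hw
      rw [← tr_nat_assoc f, ht₁] at h1
      simpa only [Category.assoc, tr_comp_assoc] using h1
    have h3 : w ≫ ARSys.tr Y hj = x ≫ ARSys.tr X hjl ≫ f.app (op j) := by
      rw [tr_nat f, ← Category.assoc x, ← hx, Category.assoc, tr_comp]
    rw [h3, hKA₃ j l (by omega) (hNA.trans hNl) hjl, Category.assoc, Category.assoc, ← hβ₁ j,
      reassoc_of% hp, zero_comp]
  choose K hjK hNK hkill using kill
  let σ : ∀ k, N ≤ k → (B ⟶ Y.obj (op k)) := fun k hk =>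
    haveI := he k hk
    inv (β k ≫ ARSys.tr Y hk ≫ t) ≫ β k
  have hσ : ∀ k hk, σ k hk ≫ ARSys.tr Y hk ≫ t = 𝟙 B := fun k hk => by
    haveI := he k hk
    simp [σ]
  let b : ∀ j, B ⟶ Y.obj (op j) := fun j => σ (K j) (hNK j) ≫ ARSys.tr Y (hjK j)
  have indep : ∀ j k (_ : K j ≤ k) (hk : N ≤ k) (hjk : j ≤ k), σ k hk ≫ ARSys.tr Y hjk = b j := by
    intro j k hKk hk hjk
    have h1 := hkill j (σ k hk ≫ ARSys.tr Y hKk - σ (K j) (hNK j)) (by
      rw [Preadditive.sub_comp, Category.assoc, tr_comp_assoc, hσ, hσ, sub_self]) (hjK j)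
    rwa [Preadditive.sub_comp, Category.assoc, tr_comp, sub_eq_zero] at h1
  have hb : ∀ (m n : ℕ) (hnm : n ≤ m), b m ≫ ARSys.tr Y hnm = b n := by
    intro m n hnm
    let k := K m ⊔ K n
    have := hjK m
    have := hNK m
    rw [← indep m k (by omega) (by omega) (by omega), Category.assoc, tr_comp,
      indep n k (by omega) (by omega) (by omega)]
  refine ⟨B, cone b hb, N, t, ?_, fun j => ?_⟩
  · change b N ≫ t = 𝟙 B
    exact (Category.assoc _ _ _).trans (hσ _ _)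
  · refine ⟨K j, hNK j, hjK j, ?_⟩
    change _ = ARSys.tr Y (hNK j) ≫ t ≫ b j
    have h1 := hkill j (𝟙 _ - (ARSys.tr Y (hNK j) ≫ t) ≫ σ (K j) (hNK j)) (by
      rw [Preadditive.sub_comp, Category.id_comp, Category.assoc, Category.assoc, hσ,
        Category.comp_id, sub_self]) (hjK j)
    rw [Preadditive.sub_comp, Category.id_comp, sub_eq_zero] at h1
    rw [h1]
    simp [b]

variable {X' Y' Z' : ARSys.PS D} {f' : X' ⟶ Y'} {g' : Y' ⟶ Z'}
  {h' : ∀ n, Z'.obj (op n) ⟶ (X'.obj (op n))⟦(1 : ℤ)⟧}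

/-- The five lemma for pro-isomorphisms. -/
theorem isProIso₂ (hh : Conn h) (hh' : Conn h')
    (hT : ∀ n : ℕ, Triangle.mk (f.app (op n)) (g.app (op n)) (h (n)) ∈ distTriang D)
    (hT' : ∀ n : ℕ,
      Triangle.mk (f'.app (op n)) (g'.app (op n)) (h' (n)) ∈ distTriang D)
    (a : X ⟶ X') (b : Y ⟶ Y') (c : Z ⟶ Z')
    (w₁ : f ≫ b = a ≫ f') (w₂ : g ≫ c = b ≫ g')
    (w₃ : ∀ n : ℕ, h (n) ≫ (a.app (op n))⟦(1 : ℤ)⟧' = c.app (op n) ≫ h' (n))
    (ha : DerCA.IsProIso a) (hc : DerCA.IsProIso c) : DerCA.IsProIso b := by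
  have w₁' : ∀ n, f.app (op n) ≫ b.app (op n) = a.app (op n) ≫ f'.app (op n) :=
    fun n => congrArg (fun t => NatTrans.app t (op n)) w₁
  have w₂' : ∀ n, g.app (op n) ≫ c.app (op n) = b.app (op n) ≫ g'.app (op n) :=
    fun n => congrArg (fun t => NatTrans.app t (op n)) w₂
  choose ma hma ia ha₁ ha₂ using ha
  choose mc hmc ic hc₁ hc₂ using hc
  have killa : ∀ n {W : D} (x : W ⟶ X.obj (op (ma n))), x ≫ a.app (op (ma n)) = 0 →
      x ≫ ARSys.tr X (hma n) = 0 := fun n W x hx => by rw [← ha₁, reassoc_of% hx, zero_comp]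
  have killc : ∀ n {W : D} (x : W ⟶ Z.obj (op (mc n))), x ≫ c.app (op (mc n)) = 0 →
      x ≫ ARSys.tr Z (hmc n) = 0 := fun n W x hx => by rw [← hc₁, reassoc_of% hx, zero_comp]
  have inj : ∀ n, ∃ (m : ℕ) (hm : n ≤ m), ∀ {W : D} (w : W ⟶ Y.obj (op m)),
      w ≫ b.app (op m) = 0 → w ≫ ARSys.tr Y hm = 0 := by
    intro n
    let p := ma n
    let l := mc p
    let m := mc l
    have hnp : n ≤ p := hma n
    have hpl : p ≤ l := hmc p
    have hlm : l ≤ m := hmc l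
    refine ⟨m, by omega, fun {W} w hw => ?_⟩
    have h1 : (w ≫ ARSys.tr Y hlm) ≫ g.app (op l) = 0 := by
      rw [Category.assoc, tr_nat g, ← Category.assoc]
      refine killc l _ ?_
      rw [Category.assoc, w₂', ← Category.assoc, hw, zero_comp]
    obtain ⟨x, hx⟩ := lift₂ (hT l) _ h1
    have h2 : (x ≫ a.app (op l)) ≫ f'.app (op l) = 0 := by
      rw [Category.assoc, ← w₁', ← Category.assoc, ← hx, Category.assoc, tr_nat b, ← Category.assoc,
        hw, zero_comp]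
    obtain ⟨y, hy⟩ := lift₁ (hT' l) ((x ≫ a.app (op l))⟦(1 : ℤ)⟧')
      (by rw [← Functor.map_comp, h2, Functor.map_zero])
    let y' := y ≫ ic p
    obtain ⟨d, hd⟩ := (shiftFunctor D (1 : ℤ)).map_surjective
      ((x ≫ ARSys.tr X hpl)⟦(1 : ℤ)⟧' - y' ≫ h (p))
    have hd0 : d ≫ a.app (op p) = 0 := by
      apply (shiftFunctor D (1 : ℤ)).map_injective
      rw [Functor.map_comp, hd, Functor.map_zero, Preadditive.sub_comp, sub_eq_zero,
        Category.assoc, w₃, ← Functor.map_comp, Category.assoc, tr_nat a, ← Category.assoc,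
        Functor.map_comp, hy, Category.assoc, ← tr_nat₃ hh', Category.assoc]
      exact congrArg (y ≫ ·) ((congrArg (· ≫ h' (p)) (hc₂ p).symm).trans
        (Category.assoc _ _ _))
    have h4 := killa n d hd0
    have h5 : ((x ≫ ARSys.tr X (hnp.trans hpl)) ≫ f.app (op n))⟦(1 : ℤ)⟧' = 0 := by
      have h6 := congrArg (fun z => z⟦(1 : ℤ)⟧') h4
      simp only [Functor.map_comp, hd, Functor.map_zero, Preadditive.sub_comp, sub_eq_zero] at h6
      rw [Functor.map_comp, ← tr_comp X hnp hpl, ← Category.assoc, Functor.map_comp,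
        Functor.map_comp, h6, Category.assoc y', ← tr_nat₃ hh, Category.assoc, Category.assoc]
      rw [Category.assoc, zero₃₁ (hT n), comp_zero, comp_zero, comp_zero]
    have h7 : (x ≫ ARSys.tr X (hnp.trans hpl)) ≫ f.app (op n) = 0 :=
      (shiftFunctor D (1 : ℤ)).map_injective (by rw [h5, Functor.map_zero])
    rw [← tr_comp Y (hnp.trans hpl) hlm, ← Category.assoc, hx, Category.assoc, ← tr_nat f,
      ← Category.assoc]
    exact h7
  have surj : ∀ n, ∃ (m : ℕ) (hm : n ≤ m) (z : Y'.obj (op m) ⟶ Y.obj (op n)),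
      z ≫ b.app (op n) = ARSys.tr Y' hm := by
    intro n
    let p := ma n
    let l := ma p
    let m := mc l
    have hnp : n ≤ p := hma n
    have hpl : p ≤ l := hma p
    have hlm : l ≤ m := hmc l
    let z := g'.app (op m) ≫ ic l
    obtain ⟨d, hd⟩ := (shiftFunctor D (1 : ℤ)).map_surjective
      (X := (Y'.obj (op m))⟦(-1 : ℤ)⟧) (Y := X.obj (op l))
      ((shiftEquiv D (1 : ℤ)).counitIso.hom.app _ ≫ z ≫ h (l))
    have hd0 : d ≫ a.app (op l) = 0 := by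
      apply (shiftFunctor D (1 : ℤ)).map_injective
      have : z ≫ h (l) ≫ (a.app (op l))⟦(1 : ℤ)⟧' = 0 := by
        rw [w₃, Category.assoc, reassoc_of% hc₂ l, tr_nat₃ hh', ← Category.assoc]
        rw [zero₂₃ (hT' m), zero_comp]
      rw [Functor.map_comp, hd, Functor.map_zero, Category.assoc, Category.assoc, this, comp_zero]
    have h4 : (z ≫ ARSys.tr Z hpl) ≫ h (p) = 0 := by
      have h6 := congrArg (fun t => t⟦(1 : ℤ)⟧') (killa p d hd0)
      simp only [Functor.map_comp, hd, Functor.map_zero, Category.assoc, ← tr_nat₃ hh] at h6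
      rw [Category.assoc]
      exact (cancel_epi ((shiftEquiv D (1 : ℤ)).counitIso.hom.app _)).mp (h6.trans comp_zero.symm)
    obtain ⟨y, hy⟩ := lift₃ (hT p) _ h4
    obtain ⟨x, hx⟩ := lift₂ (hT' p)
      (ARSys.tr Y' (hpl.trans hlm) - y ≫ b.app (op p)) (by
        rw [Preadditive.sub_comp, sub_eq_zero, Category.assoc, ← w₂', ← Category.assoc, ← hy,
          tr_nat g', Category.assoc, tr_nat c, ← Category.assoc, Category.assoc (g'.app _), hc₂,
          Category.assoc, tr_comp])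
    refine ⟨m, by omega, y ≫ ARSys.tr Y hnp + (x ≫ ia n) ≫ f.app (op n), ?_⟩
    rw [Preadditive.add_comp, Category.assoc, tr_nat b, Category.assoc, Category.assoc, w₁',
      reassoc_of% ha₂ n, tr_nat f', ← Category.assoc x, ← hx, ← Category.assoc y,
      ← Preadditive.add_comp, add_sub_cancel, tr_comp]
  intro n
  obtain ⟨l, hnl, hl⟩ := inj n
  obtain ⟨m, hlm, z, hz⟩ := surj l
  refine ⟨m, hnl.trans hlm, z ≫ ARSys.tr Y hnl, ?_, ?_⟩
  · have h1 := hl (b.app (op m) ≫ z - ARSys.tr Y hlm) (by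
      rw [Preadditive.sub_comp, Category.assoc, hz, tr_nat b, sub_self])
    rwa [Preadditive.sub_comp, Category.assoc, tr_comp, sub_eq_zero] at h1
  · rw [Category.assoc, tr_nat b, ← Category.assoc, hz, tr_comp]

end GrothLib.ProTri
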