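import Groth.Agent.Lib.ProTri.Basic
import Groth.Agent.Lib.DerCat.Truncation

/-!
# Essential constancy and pro-isomorphisms in the derived category from cohomology
-/

universe w v u v' u'

open CategoryTheory Limits Pretriangulated Opposite DerivedCategory GrothLib.ProTri GrothLib.DerTrunc

namespace GrothLib.ProTri

variable {A : Type u} [Category.{v} A] [Abelian A] [HasDerivedCategory.{w} A]

lemma bijective_homology_map_single (b : ℤ) (P Q : A) :
    Function.Bijective (fun f : (singleFunctor A b).obj P ⟶ (singleFunctor A b).obj Q =>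
      (homologyFunctor A b).map f) := by
  let e := singleFunctorCompHomologyFunctorIso A b
  constructor
  · intro f g hfg
    obtain ⟨φ, rfl⟩ := (singleFunctor A b).map_surjective f
    obtain ⟨ψ, rfl⟩ := (singleFunctor A b).map_surjective g
    have h1 : φ = ψ := by
      have e₁ := NatIso.naturality_1 e φ
      have e₂ := NatIso.naturality_1 e ψ
      dsimp at e₁ e₂ hfg
      rw [← e₁, ← e₂, hfg]
    rw [h1]
  · intro k
    refine ⟨(singleFunctor A b).map (e.inv.app P ≫ k ≫ e.hom.app Q), ?_⟩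
    have := NatIso.naturality_2 e (e.inv.app P ≫ k ≫ e.hom.app Q)
    dsimp at this ⊢
    rw [← this]
    simp

lemma bijective_homology_map (b : ℤ) (X Y : DerivedCategory A) [X.IsGE b] [X.IsLE b] [Y.IsGE b]
    [Y.IsLE b] :
    Function.Bijective (fun f : X ⟶ Y => (homologyFunctor A b).map f) := by
  obtain ⟨eX⟩ := nonempty_iso_single X b
  obtain ⟨eY⟩ := nonempty_iso_single Y b
  have h := bijective_homology_map_single (A := A) b ((homologyFunctor A b).obj X)
    ((homologyFunctor A b).obj Y)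
  constructor
  · intro f g hfg
    dsimp at hfg
    have h1 : eX.inv ≫ f ≫ eY.hom = eX.inv ≫ g ≫ eY.hom := h.1 (by simp [hfg])
    simpa using h1
  · intro k
    obtain ⟨f, hf⟩ := h.2 ((homologyFunctor A b).map eX.inv ≫ k ≫ (homologyFunctor A b).map eY.hom)
    dsimp at hf
    refine ⟨eX.hom ≫ f ≫ eY.inv, ?_⟩
    simp only [Functor.map_comp, hf, Category.assoc]
    simp [← Functor.map_comp, ← Functor.map_comp_assoc]

section General

variable {C : Type u'} [Category.{v'} C]

lemma essConstant_of_iso {X Y : ARSys.PS C} (e : X ≅ Y)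
    (h : ∃ (B : C) (c : (Functor.const ℕᵒᵖ).obj B ⟶ X), DerCA.IsEssConstant X B c) :
    ∃ (B : C) (c : (Functor.const ℕᵒᵖ).obj B ⟶ Y), DerCA.IsEssConstant Y B c := by
  obtain ⟨B, c, i, s, hs, hk⟩ := h
  refine ⟨B, c ≫ e.hom, i, e.inv.app (op i) ≫ s, ?_, fun j => ?_⟩
  · simp [hs]
  · obtain ⟨k, hi, hj, hk⟩ := hk j
    refine ⟨k, hi, hj, ?_⟩
    have h1 : ARSys.tr Y hj = e.inv.app (op k) ≫ ARSys.tr X hj ≫ e.hom.app (op j) := by
      rw [tr_nat e.hom, Iso.inv_hom_id_app_assoc]
    rw [h1, hk]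
    simp only [Category.assoc, NatTrans.comp_app, ← tr_nat_assoc e.inv]

lemma essConstant_of_isZero [HasZeroMorphisms C] [HasZeroObject C] {X : ARSys.PS C}
    (h : ∀ n, IsZero (X.obj (op n))) :
    ∃ (B : C) (c : (Functor.const ℕᵒᵖ).obj B ⟶ X), DerCA.IsEssConstant X B c := by
  obtain ⟨B, hB⟩ := HasZeroObject.zero (C := C)
  exact ⟨B, cone (fun n => 0) (fun m n hh => zero_comp), 0, 0, hB.eq_of_src _ _,
    fun j => ⟨j, Nat.zero_le j, le_rfl, (h j).eq_of_src _ _⟩⟩

lemma isProIso_of_iso {X Y X' Y' : ARSys.PS C} {a : X ⟶ Y} (a' : X' ⟶ Y') (e : X ≅ X')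
    (e' : Y ≅ Y') (w : a ≫ e'.hom = e.hom ≫ a') (h : DerCA.IsProIso a) : DerCA.IsProIso a' := by
  intro n
  obtain ⟨m, hm, b, h₁, h₂⟩ := h n
  have w' : ∀ k, a.app (op k) ≫ e'.hom.app (op k) = e.hom.app (op k) ≫ a'.app (op k) :=
    fun k => congrArg (fun t => NatTrans.app t (op k)) w
  have w'' : ∀ k, a'.app (op k) ≫ e'.inv.app (op k) = e.inv.app (op k) ≫ a.app (op k) := fun k => by
    rw [← cancel_mono (e'.hom.app (op k)), Category.assoc, Category.assoc, w']
    simp
  refine ⟨m, hm, e'.inv.app (op m) ≫ b ≫ e.hom.app (op n), ?_, ?_⟩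
  · rw [reassoc_of% w'' m, reassoc_of% h₁, tr_nat e.hom, Iso.inv_hom_id_app_assoc]
  · rw [Category.assoc, Category.assoc, ← w', reassoc_of% h₂, tr_nat e'.hom,
      Iso.inv_hom_id_app_assoc]

lemma isProIso_of_isZero [HasZeroMorphisms C] {X Y : ARSys.PS C} (a : X ⟶ Y)
    (hX : ∀ n, IsZero (X.obj (op n))) (hY : ∀ n, IsZero (Y.obj (op n))) : DerCA.IsProIso a :=
  fun n => ⟨n, le_rfl, 0, (hX n).eq_of_src _ _, (hY n).eq_of_src _ _⟩

end General

lemma essConstant_heart (b : ℤ) (X : ARSys.PS (DerivedCategory A))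
    (hGE : ∀ n, (X.obj (op n)).IsGE b) (hLE : ∀ n, (X.obj (op n)).IsLE b)
    (hH : ∃ (B : A) (c : (Functor.const ℕᵒᵖ).obj B ⟶ X ⋙ homologyFunctor A b),
      DerCA.IsEssConstant (X ⋙ homologyFunctor A b) B c) :
    ∃ (L : DerivedCategory A) (c : (Functor.const ℕᵒᵖ).obj L ⟶ X),
      DerCA.IsEssConstant X L c := by
  obtain ⟨B, c, i, s, hs, hk⟩ := hH
  let L := (singleFunctor A b).obj B
  have : L.IsGE b := inferInstance
  have : L.IsLE b := inferInstance
  let eL : (homologyFunctor A b).obj L ≅ B := (singleFunctorCompHomologyFunctorIso A b).app B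
  choose l hl using fun n =>
    (haveI := hGE n; haveI := hLE n; bijective_homology_map b L (X.obj (op n))).2
      (eL.hom ≫ c.app (op n))
  dsimp at hl
  obtain ⟨t, ht⟩ := (haveI := hGE i; haveI := hLE i; bijective_homology_map b (X.obj (op i)) L).2
    (s ≫ eL.inv)
  dsimp at ht
  refine ⟨L, cone l (fun m n h => ?_), i, t, ?_, fun j => ?_⟩
  · have := hGE n
    have := hLE n
    apply (bijective_homology_map b L (X.obj (op n))).1
    dsimp
    rw [Functor.map_comp, hl, hl, Category.assoc]
    exact congrArg (eL.hom ≫ ·) (const_tr c h)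
  · change l i ≫ t = 𝟙 L
    apply (bijective_homology_map b L L).1
    dsimp
    rw [Functor.map_comp, hl, ht, Category.assoc]
    refine (congrArg (eL.hom ≫ ·) ((Category.assoc _ _ _).symm.trans
      ((congrArg (· ≫ eL.inv) hs).trans (Category.id_comp _)))).trans ?_
    rw [eL.hom_inv_id]
    exact (CategoryTheory.Functor.map_id _ _).symm
  · obtain ⟨k, hi, hj, hk⟩ := hk j
    refine ⟨k, hi, hj, ?_⟩
    change _ = _ ≫ t ≫ l j
    have := hGE k
    have := hLE k
    have := hGE j
    have := hLE j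
    apply (bijective_homology_map b (X.obj (op k)) (X.obj (op j))).1
    dsimp
    rw [Functor.map_comp, Functor.map_comp, hl, ht, Category.assoc, Iso.inv_hom_id_assoc]
    exact hk

lemma isProIso_heart (b : ℤ) {X Y : ARSys.PS (DerivedCategory A)} (f : X ⟶ Y)
    (hX : ∀ n, (X.obj (op n)).IsGE b) (hX' : ∀ n, (X.obj (op n)).IsLE b)
    (hY : ∀ n, (Y.obj (op n)).IsGE b) (hY' : ∀ n, (Y.obj (op n)).IsLE b)
    (hH : DerCA.IsProIso (Functor.whiskerRight f (homologyFunctor A b))) : DerCA.IsProIso f := by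
  intro n
  obtain ⟨m, hm, k, h₁, h₂⟩ := hH n
  have := hX n
  have := hX' n
  have := hY n
  have := hY' n
  have := hX m
  have := hX' m
  have := hY m
  have := hY' m
  obtain ⟨g, hg⟩ := (bijective_homology_map b (Y.obj (op m)) (X.obj (op n))).2 k
  dsimp at hg
  refine ⟨m, hm, g, ?_, ?_⟩
  · apply (bijective_homology_map b (X.obj (op m)) (X.obj (op n))).1
    dsimp
    rw [Functor.map_comp, hg]
    exact h₁
  · apply (bijective_homology_map b (Y.obj (op m)) (Y.obj (op n))).1
    dsimp
    rw [Functor.map_comp, hg]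
    exact h₂

local notation "τ" => (DerivedCategory.TStructure.t : Triangulated.TStructure (DerivedCategory A))

/-- The system of truncations `τ_{<b}`. -/
noncomputable abbrev lt (b : ℤ) (X : ARSys.PS (DerivedCategory A)) :
    ARSys.PS (DerivedCategory A) := X ⋙ (τ).truncLT b

/-- The system of truncations `τ_{≥b}`. -/
noncomputable abbrev ge (b : ℤ) (X : ARSys.PS (DerivedCategory A)) :
    ARSys.PS (DerivedCategory A) := X ⋙ (τ).truncGE b

noncomputable def ltι (b : ℤ) (X : ARSys.PS (DerivedCategory A)) : lt b X ⟶ X :=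
  Functor.whiskerLeft X ((τ).truncLTι b) ≫ (Functor.rightUnitor X).hom

noncomputable def geπ (b : ℤ) (X : ARSys.PS (DerivedCategory A)) : X ⟶ ge b X :=
  (Functor.rightUnitor X).inv ≫ Functor.whiskerLeft X ((τ).truncGEπ b)

lemma conn_trunc (b : ℤ) (X : ARSys.PS (DerivedCategory A)) :
    Conn (X := lt b X) (Z := ge b X) (fun n => ((τ).truncGEδLT b).app (X.obj (op n))) :=
  fun _ _ hab => ((τ).truncGEδLT b).naturality (ARSys.tr X hab)

lemma triangle_trunc (b : ℤ) (X : ARSys.PS (DerivedCategory A)) (n : ℕ) :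
    Triangle.mk ((ltι b X).app (op n)) ((geπ b X).app (op n))
      (((τ).truncGEδLT b).app (X.obj (op n))) ∈ distTriang (DerivedCategory A) := by
  simpa [ltι, geπ, Triangulated.TStructure.triangleLTGE] using!
    (τ).triangleLTGE_distinguished b (X.obj (op n))

section Range

variable (a b : ℤ) (X : ARSys.PS (DerivedCategory A))
  (hX : ∀ (n : ℕ) (i : ℤ), i < a ∨ b < i → IsZero ((homologyFunctor A i).obj (X.obj (op n))))

include hX

lemma isGE_of_range (n : ℕ) : (X.obj (op n)).IsGE a :=
  (DerivedCategory.isGE_iff _ _).2 fun i hi => hX n i (Or.inl hi)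

lemma isLE_of_range (n : ℕ) : (X.obj (op n)).IsLE b :=
  (DerivedCategory.isLE_iff _ _).2 fun i hi => hX n i (Or.inr hi)

lemma isLE_ge (n : ℕ) : ((ge b X).obj (op n)).IsLE b :=
  (DerivedCategory.isLE_iff _ _).2 fun i hi => by
    have := isIso_homology_truncGEπ (X.obj (op n)) b i hi.le
    exact (hX n i (Or.inr hi)).of_iso
      (asIso ((homologyFunctor A i).map (((τ).truncGEπ b).app (X.obj (op n))))).symm

lemma range_lt (n : ℕ) (i : ℤ) (hi : i < a ∨ b - 1 < i) :
    IsZero ((homologyFunctor A i).obj ((lt b X).obj (op n))) := by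
  by_cases h : b ≤ i
  · exact isZero_homology_truncLT _ b i h
  · have := isIso_homology_truncLTι (X.obj (op n)) b i (by omega)
    exact (hX n i (by omega)).of_iso
      (asIso ((homologyFunctor A i).map (((τ).truncLTι b).app (X.obj (op n)))))

end Range

lemma isGE_ge (b : ℤ) (X : ARSys.PS (DerivedCategory A)) (n : ℕ) :
    ((ge b X).obj (op n)).IsGE b :=
  inferInstanceAs ((τ).IsGE (((τ).truncGE b).obj (X.obj (op n))) b)

/-- `H^i` of `τ_{<b}` is `H^i` for `i < b`. -/
noncomputable def isoLT (b i : ℤ) (hi : i < b) (X : ARSys.PS (DerivedCategory A)) :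
    lt b X ⋙ homologyFunctor A i ≅ X ⋙ homologyFunctor A i :=
  NatIso.ofComponents
    (fun n => haveI := isIso_homology_truncLTι (X.obj n) b i hi
      asIso ((homologyFunctor A i).map (((τ).truncLTι b).app (X.obj n))))
    (fun f => by
      dsimp
      rw [← Functor.map_comp, ← Functor.map_comp]
      exact congrArg _ (((τ).truncLTι b).naturality (X.map f)))

/-- `H^b` of `τ_{≥b}` is `H^b`. -/
noncomputable def isoGE (b : ℤ) (X : ARSys.PS (DerivedCategory A)) :
    X ⋙ homologyFunctor A b ≅ ge b X ⋙ homologyFunctor A b :=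
  NatIso.ofComponents
    (fun n => haveI := isIso_homology_truncGEπ (X.obj n) b b le_rfl
      asIso ((homologyFunctor A b).map (((τ).truncGEπ b).app (X.obj n))))
    (fun f => by
      dsimp
      rw [← Functor.map_comp, ← Functor.map_comp]
      exact congrArg _ (((τ).truncGEπ b).naturality (X.map f)))

theorem essConstant_of_homology (m : ℕ) : ∀ (a : ℤ) (X : ARSys.PS (DerivedCategory A)),
    (∀ (n : ℕ) (i : ℤ), i < a ∨ a + m < i → IsZero ((homologyFunctor A i).obj (X.obj (op n)))) →
    (∀ i : ℤ, ∃ (B : A) (c : (Functor.const ℕᵒᵖ).obj B ⟶ X ⋙ homologyFunctor A i),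
      DerCA.IsEssConstant (X ⋙ homologyFunctor A i) B c) →
    ∃ (L : DerivedCategory A) (c : (Functor.const ℕᵒᵖ).obj L ⟶ X),
      DerCA.IsEssConstant X L c := by
  induction m with
  | zero =>
    intro a X hX hH
    simp only [CharP.cast_eq_zero, add_zero] at hX
    exact essConstant_heart a X (isGE_of_range a a X hX) (isLE_of_range a a X hX) (hH a)
  | succ m ih =>
    intro a X hX hH
    obtain ⟨L₁, c₁, h₁⟩ := ih a (lt (a + (m + 1 : ℕ)) X)
      (fun n i hi => range_lt a (a + (m + 1 : ℕ)) X hX n i (by omega)) (fun i => by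
      by_cases hi : i < a + (m + 1 : ℕ)
      · exact essConstant_of_iso (isoLT _ i hi X).symm (hH i)
      · exact essConstant_of_isZero fun n => isZero_homology_truncLT _ _ i (by omega))
    obtain ⟨L₃, c₃, h₃⟩ := essConstant_heart (a + (m + 1 : ℕ)) (ge (a + (m + 1 : ℕ)) X)
      (isGE_ge _ X) (isLE_ge a _ X hX) (essConstant_of_iso (isoGE _ X) (hH _))
    exact essConstant₂ (conn_trunc _ X) (triangle_trunc _ X) h₁ h₃

theorem isProIso_of_homology (m : ℕ) : ∀ (a : ℤ) (X Y : ARSys.PS (DerivedCategory A)) (f : X ⟶ Y),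
    (∀ (n : ℕ) (i : ℤ), i < a ∨ a + m < i → IsZero ((homologyFunctor A i).obj (X.obj (op n)))) →
    (∀ (n : ℕ) (i : ℤ), i < a ∨ a + m < i → IsZero ((homologyFunctor A i).obj (Y.obj (op n)))) →
    (∀ i : ℤ, DerCA.IsProIso (Functor.whiskerRight f (homologyFunctor A i))) →
    DerCA.IsProIso f := by
  induction m with
  | zero =>
    intro a X Y f hX hY hH
    simp only [CharP.cast_eq_zero, add_zero] at hX hY
    exact isProIso_heart a f (isGE_of_range a a X hX) (isLE_of_range a a X hX)
      (isGE_of_range a a Y hY) (isLE_of_range a a Y hY) (hH a)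
  | succ m ih =>
    intro a X Y f hX hY hH
    generalize hb : a + ((m + 1 : ℕ) : ℤ) = b at hX hY
    let f₁ : lt b X ⟶ lt b Y := Functor.whiskerRight f _
    let f₃ : ge b X ⟶ ge b Y := Functor.whiskerRight f _
    have h₁ : DerCA.IsProIso f₁ := ih a _ _ f₁
      (fun n i hi => range_lt a b X hX n i (by omega))
      (fun n i hi => range_lt a b Y hY n i (by omega)) (fun i => by
        by_cases hi : i < b
        · refine isProIso_of_iso _ (isoLT b i hi X).symm (isoLT b i hi Y).symm ?_ (hH i)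
          rw [Iso.symm_hom, Iso.symm_hom, Iso.comp_inv_eq, Category.assoc, Iso.eq_inv_comp]
          ext n
          simp only [isoLT, f₁, NatTrans.comp_app, Functor.whiskerRight_app]
          dsimp
          rw [← Functor.map_comp, ← Functor.map_comp]
          exact congrArg _ (((τ).truncLTι b).naturality (f.app n)).symm
        · exact isProIso_of_isZero _ (fun n => isZero_homology_truncLT _ _ i (by omega))
            (fun n => isZero_homology_truncLT _ _ i (by omega)))
    have h₃ : DerCA.IsProIso f₃ := isProIso_heart b f₃ (isGE_ge _ X) (isLE_ge a _ X hX)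
      (isGE_ge _ Y) (isLE_ge a _ Y hY)
      (isProIso_of_iso _ (isoGE b X) (isoGE b Y) (by
        ext n
        simp only [isoGE, f₃, NatTrans.comp_app, Functor.whiskerRight_app]
        dsimp
        rw [← Functor.map_comp, ← Functor.map_comp]
        exact congrArg _ (((τ).truncGEπ b).naturality (f.app n))) (hH b))
    refine isProIso₂ (conn_trunc b X) (conn_trunc b Y) (triangle_trunc b X) (triangle_trunc b Y)
      f₁ f f₃ ?_ ?_ (fun n => ?_) h₁ h₃
    · ext n
      simpa [f₁, ltι] using! (((τ).truncLTι b).naturality (f.app n)).symm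
    · ext n
      simpa [f₃, geπ] using! (((τ).truncGEπ b).naturality (f.app n)).symm
    · exact ((τ).truncGEδLT b).naturality (f.app (op n)) |>.symm

end GrothLib.ProTri
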